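import Mathlib
import Cfsg.Agent.H209.PiSpor.Tools
import Cfsg.Agent.H209.PiSpor.ToolsV
import Cfsg.Agent.H131.T5J4
import Cfsg.Agent.H49.JFourThree
import Cfsg.Agent.J4Type.Final
import Cfsg.Agent.H55.OutGen
import Cfsg.Agent.S0365
import Cfsg.Agent.S1703
import Cfsg.Agent.S2068

/-!
# S4324: `J4`, `s = 11` (helper208)

`p = 3, 5, 7, 23` : the subgroup `M24` has index prime to `p`; `p = 2` : both classes of involutions of
`J4` meet `M24`; `p = 29, 31, 37, 43` : no element of order `p` commutes with an element of order 11.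
-/

set_option autoImplicit false

namespace Cfsg.Agent.H208.PiSpor.JFour

open Subgroup Cfsg Cfsg.Agent Cfsg.Agent.H216.Pi Cfsg.Agent.H209.PiSpor
open Cfsg.Agent.Lib Cfsg.Agent.Lib.F2MatGroup Cfsg.Agent.J4.Rep112 Cfsg.Agent.J4.Lower
open Cfsg.Agent.J4.LowerData Cfsg.Agent.J4.GroupLemmas Cfsg.Agent.J4.Beta
open Cfsg.Agent.J4.ClassesData Cfsg.Agent.J4.M24Hom Cfsg.Agent.J4.ClassesAbs
open Cfsg.Agent.J4.M24InvolData Cfsg.Agent.SporadicStructure.M24El Cfsg.Agent.J4.Classes

universe u

/-- the conjugacy contained in the check of a representative -/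
theorem conj_of_rep {G : Type*} [Group G] {L l : List G} (hl : l.length = 11)
    (hL : ∀ k < 11, getG L (42 + k) = l.getD k 1) {R : Subgroup G} (hR : ∀ g ∈ L, g ∈ R)
    {E : List (List ℕ × List ℕ)} (hE : ∀ p ∈ E, evG L p.1 = evG L p.2)
    {im v : ℕ} {r : ℕ × ℕ × ℕ × ℕ × List ℕ × List ℕ × ℕ} (h : repOk E im v r = true) :
    ∃ w ∈ R, w * (J4.Beta.beta l v * getG L im) * w⁻¹ = getG L r.2.2.2.2.2.2 := by
  unfold repOk at h
  rw [Bool.and_eq_true, Bool.and_eq_true, Bool.and_eq_true, List.contains_iff_mem,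
    List.contains_iff_mem, List.contains_iff_mem, Bool.or_eq_true, Nat.beq_eq, Nat.beq_eq] at h
  obtain ⟨⟨⟨h1, h2⟩, h3⟩, -⟩ := h
  have e1 := hE _ h1
  have e2 := hE _ h2
  have e3 := hE _ h3
  simp only [evG_append, evG_single, abs_bw hl hL] at e1
  simp only [evG_append, evG_cons, evG_nil, mul_one] at e2
  simp only [evG_append, evG_nil] at e3
  rw [← e1]
  have hu : getG L r.2.2.1 ∈ R := getG_mem R hR _
  have hp : getG L r.2.2.2.1 ∈ R := getG_mem R hR _
  have hw : evG L r.2.2.2.2.2.1 ∈ R := evG_mem R hR _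
  have hw' : evG L r.2.2.2.2.1 = (evG L r.2.2.2.2.2.1)⁻¹ := eq_inv_of_mul_eq_one_left e3
  rw [hw'] at e2
  generalize getG L r.2.2.1 = u at *
  generalize getG L r.2.2.2.1 = p at *
  generalize evG L r.2.2.2.2.2.1 = w at *
  refine ⟨w * p⁻¹, R.mul_mem hw (R.inv_mem hp), ?_⟩
  have : w * p⁻¹ * u * (w * p⁻¹)⁻¹ = w * p⁻¹ * (u * p) * w⁻¹ := by group
  rw [this, e2]; group

theorem repS : repOk eqsC 41 0 (1, 0, 39, 36, [58, 56], [57, 58], 52) = true := by decide +kernel
theorem repD : repOk eqsC 55 0 (2, 0, 7, 4, [55, 56, 58, 56, 58], [58, 57, 58, 57, 55], 40) = true := by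
  decide +kernel

theorem isJ4 : Cfsg.IsJ4 Cfsg.Spor.J4 := S1703.result

theorem inj : Function.Injective rho := J4Type.Final.rho_injective isJ4

/-- The sextet involution of `2^11` is conjugate to an element of `M24`. -/
theorem conj_s : ∃ g : Cfsg.Spor.J4, g * J4.Pres.phi (el P1) * g⁻¹ = J4.Invol.s := by
  obtain ⟨w, ⟨g, rfl⟩, h⟩ := conj_of_rep (L := LC) qs_length getG_LC LC_mem eqC repS
  rw [beta_zero, one_mul, getG_41] at h
  refine ⟨g, inj ?_⟩
  rw [map_mul, map_mul, map_inv, J4.Invol.rho_s, ← getG_52]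
  exact h

/-- The duad involution of `2^11` is conjugate to an element of `M24`. -/
theorem conj_d : ∃ g : Cfsg.Spor.J4, g * J4.Pres.phi XM * g⁻¹ = J4.Invol.d := by
  obtain ⟨w, ⟨g, rfl⟩, h⟩ := conj_of_rep (L := LC) qs_length getG_LC LC_mem eqC repD
  rw [beta_zero, one_mul, getX] at h
  refine ⟨g, inj ?_⟩
  rw [map_mul, map_mul, map_inv, J4.Invol.rho_d, ← getG_40, J4.Pres.phi_X]
  exact h

theorem finite_J4 : Finite Cfsg.Spor.J4 := J4Type.Final.finite_J4 isJ4

theorem card_J4 : Nat.card Cfsg.Spor.J4 = 86775571046077562880 := isJ4.2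

/-- Every involution of `J4` is conjugate to an element of `M24`. -/
theorem exists_conj_M24 {u : Cfsg.Spor.J4} (hu : orderOf u = 2) :
    ∃ g : Cfsg.Spor.J4, g * u * g⁻¹ ∈ J4.Pres.phi.range := by
  have h1 : u * u = 1 := by
    have := pow_orderOf_eq_one u
    rwa [hu, pow_two] at this
  have h2 : u ≠ 1 := by
    rintro rfl
    rw [orderOf_one] at hu
    norm_num at hu
  have key : ∀ {v : Cfsg.Spor.J4} {m : M24}, (∃ g : Cfsg.Spor.J4, g * J4.Pres.phi m * g⁻¹ = v) →
      IsConj u v → ∃ g : Cfsg.Spor.J4, g * u * g⁻¹ ∈ J4.Pres.phi.range := by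
    rintro v m ⟨g, hg⟩ h
    obtain ⟨c, hc⟩ := isConj_iff.1 h
    refine ⟨g⁻¹ * c, m, ?_⟩
    have e : g⁻¹ * c * u * (g⁻¹ * c)⁻¹ = g⁻¹ * (c * u * c⁻¹) * g := by group
    rw [e, hc, ← hg]
    group
  rcases J4Type.Final.invol isJ4 u h1 h2 with h | h
  · exact key conj_s h
  · exact key conj_d h

theorem simple_range : IsSimpleGroup J4.Pres.phi.range := by
  have : IsSimpleGroup M24 := S0365.result
  have e : M24 ≃* J4.Pres.phi.range := MonoidHom.ofInjective H49.JFourThree.phi_injective
  have : Nontrivial J4.Pres.phi.range := e.symm.nontrivial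
  exact IsSimpleGroup.isSimpleGroup_of_surjective e.toMonoidHom e.surjective

theorem range_ne_top : J4.Pres.phi.range ≠ ⊤ := by
  intro h
  have h1 := H49.JFourThree.card_range
  rw [h, card_top, card_J4] at h1
  norm_num at h1

theorem center_J4 : center Cfsg.Spor.J4 = ⊥ := by
  have := isJ4.1
  rcases (inferInstance : (center Cfsg.Spor.J4).Normal).eq_bot_or_eq_top with h | h
  · exact h
  · exfalso
    have h1 : IsMulCommutative J4.Pres.phi.range := ⟨⟨fun a b => Subtype.ext (by
      have h2 : (a : Cfsg.Spor.J4) ∈ center Cfsg.Spor.J4 := by rw [h]; exact mem_top _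
      exact (mem_center_iff.1 h2 b).symm)⟩⟩
    have hf := finite_J4
    have hs := simple_range
    have h3 : (Nat.card J4.Pres.phi.range).Prime := by
      let _ : CommGroup J4.Pres.phi.range := { mul_comm := h1.is_comm.comm }
      exact IsSimpleGroup.prime_card
    rw [H49.JFourThree.card_range] at h3
    norm_num at h3

theorem ni_index {p : ℕ} (hp : p.Prime) (hps : p ≠ 11) (hd : ¬ p ∣ J4.Pres.phi.range.index) :
    NI 11 p Cfsg.Spor.J4 := by
  have := finite_J4
  refine NI.of_index_simple (by norm_num) hp hps range_ne_top hd simple_range ?_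
  rw [H49.JFourThree.card_range]
  norm_num

theorem ni_V {p : ℕ} (hp : p.Prime) (h : p = 29 ∨ p = 31 ∨ p = 37 ∨ p = 43) : NI 11 p Cfsg.Spor.J4 := by
  have := finite_J4
  have : Fact (Nat.Prime 11) := ⟨by norm_num⟩
  obtain ⟨y, hy⟩ := exists_prime_orderOf_dvd_card' (G := Cfsg.Spor.J4) 11 (by rw [card_J4]; norm_num)
  refine NI.of_V (by norm_num) hp center_J4 hy ?_ ?_
  · intro g hg hgy
    refine H131.T5J4.not_dvd hy h ?_
    have h1 : g ∈ centralizer ({y} : Set Cfsg.Spor.J4) := mem_centralizer_singleton_iff.2 hgy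
    rw [← hg, ← Subgroup.orderOf_mk (H := centralizer ({y} : Set Cfsg.Spor.J4)) g h1]
    exact orderOf_dvd_natCard _
  · intro b hb hd
    have hb1 : b = 1 := by
      by_contra hne
      have h2 : 2 ≤ b := by omega
      have h3 := (pow_dvd_pow p h2).trans hd
      rw [card_J4] at h3
      rcases h with rfl | rfl | rfl | rfl <;> norm_num at h3
    rw [hb1, pow_one]
    rcases h with rfl | rfl | rfl | rfl <;> norm_num

theorem ni_two : NI 11 2 Cfsg.Spor.J4 := by
  have := finite_J4
  refine NI.of_forall_simple (by norm_num) (by norm_num) (by norm_num) fun g hg => ?_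
  obtain ⟨a, ha⟩ := exists_conj_M24 hg
  refine ⟨a, J4.Pres.phi.range, range_ne_top, ha, simple_range, ?_⟩
  rw [H49.JFourThree.card_range]
  norm_num

theorem ncs : NCs 11 Cfsg.Spor.J4 := by
  have := finite_J4
  have := isJ4.1
  refine ncs_of_inner center_J4 (fun p hp hps => ?_) (fun x => ?_)
  · by_cases hd : p ∣ Nat.card Cfsg.Spor.J4
    · have h1 : p ∣ 2 ^ 21 * (3 ^ 3 * (5 * (7 * (11 ^ 3 * (23 * (29 * (31 * (37 * 43)))))))) := by
        rw [card_J4] at hd
        norm_num
        exact hd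
      have hidx : J4.Pres.phi.range.index * 244823040 = 86775571046077562880 := by
        rw [← H49.JFourThree.card_range, mul_comm, Subgroup.card_mul_index, card_J4]
      have hidx' : J4.Pres.phi.range.index = 86775571046077562880 / 244823040 :=
        (Nat.div_eq_of_eq_mul_left (by norm_num) hidx.symm).symm
      have hq : ∀ q : ℕ, q.Prime → ∀ r k : ℕ, r.Prime → p ∣ r ^ k → p = r := by
        intro _ _ r k hr h
        exact (Nat.prime_dvd_prime_iff_eq hp hr).1 (hp.dvd_of_dvd_pow h)
      rcases (Nat.Prime.dvd_mul hp).1 h1 with h | h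
      · have : p = 2 := hq p hp 2 _ (by norm_num) h
        subst this
        exact ni_two
      rcases (Nat.Prime.dvd_mul hp).1 h with h | h
      · have : p = 3 := hq p hp 3 _ (by norm_num) h
        subst this
        exact ni_index hp hps (by rw [hidx']; norm_num)
      rcases (Nat.Prime.dvd_mul hp).1 h with h | h
      · have : p = 5 := hq p hp 5 1 (by norm_num) (by simpa using h)
        subst this
        exact ni_index hp hps (by rw [hidx']; norm_num)
      rcases (Nat.Prime.dvd_mul hp).1 h with h | h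
      · have : p = 7 := hq p hp 7 1 (by norm_num) (by simpa using h)
        subst this
        exact ni_index hp hps (by rw [hidx']; norm_num)
      rcases (Nat.Prime.dvd_mul hp).1 h with h | h
      · exact absurd (hq p hp 11 _ (by norm_num) h) hps
      rcases (Nat.Prime.dvd_mul hp).1 h with h | h
      · have : p = 23 := hq p hp 23 1 (by norm_num) (by simpa using h)
        subst this
        exact ni_index hp hps (by rw [hidx']; norm_num)
      rcases (Nat.Prime.dvd_mul hp).1 h with h | h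
      · exact ni_V hp (Or.inl (hq p hp 29 1 (by norm_num) (by simpa using h)))
      rcases (Nat.Prime.dvd_mul hp).1 h with h | h
      · exact ni_V hp (Or.inr (Or.inl (hq p hp 31 1 (by norm_num) (by simpa using h))))
      rcases (Nat.Prime.dvd_mul hp).1 h with h | h
      · exact ni_V hp (Or.inr (Or.inr (Or.inl (hq p hp 37 1 (by norm_num) (by simpa using h)))))
      · exact ni_V hp (Or.inr (Or.inr (Or.inr (hq p hp 43 1 (by norm_num) (by simpa using h)))))
    · intro g hg _ _
      exact hd (hg ▸ orderOf_dvd_natCard g)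
  · have h1 : (MulAut.conj : Cfsg.Spor.J4 →* MulAut Cfsg.Spor.J4).range.index = 1 := by
      rw [← H55.OutGen.card_out_eq_index, S2068.result]
    rw [Subgroup.index_eq_one] at h1
    rw [h1]
    exact mem_top x

end Cfsg.Agent.H208.PiSpor.JFour

namespace Cfsg.Agent.H208.PiSpor

open Cfsg Cfsg.Agent Cfsg.Agent.H216.Pi Cfsg.Agent.H209.PiSpor

universe u

theorem ncs_J4_11 {K : Type u} [Group K] [Finite K] (h : Spor.IsoJ4 K) : NCs 11 K := by
  obtain ⟨e⟩ := h
  have := JFour.finite_J4
  exact ncs_congr e.symm JFour.ncs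

end Cfsg.Agent.H208.PiSpor
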